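import Groth.Agent.Ega2.BasSec
import Groth.Agent.Grpsch.FibRank
import Groth.Agent.Etcore.FinEtPts
import Mathlib.AlgebraicGeometry.Morphisms.FlatRank

/-!
# The degree of a finite flat morphism whose direct image of the structure sheaf is locally free of rank `n`
-/

set_option autoImplicit false

universe u

open CategoryTheory CategoryTheory.Limits AlgebraicGeometry

namespace K872.Deg

theorem finrank_eq {X Y : Scheme.{u}} (f : X ⟶ Y) [IsFinite f] [Flat f] (n : ℕ)
    (h : FlatMod.IsFinLocFreeOfRank n ((Scheme.Modules.pushforward f).obj (Coh.structureModule X))) (y : Y) :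
    f.finrank y = n := by
  obtain ⟨V, hV, hyV, -⟩ := exists_isAffineOpen_mem_and_subset (U := ⊤) (x := y) trivial
  obtain ⟨g, e, hy, he⟩ := Groth.Agent.Ega2.BasSec.exists_isBas_of_finite h hV {y} (Set.finite_singleton y)
    (Set.singleton_subset_iff.2 hyV)
  have hW : IsAffineOpen (Y.basicOpen g) := hV.basicOpen g
  obtain ⟨b, -⟩ := (Groth.Agent.Ega2.BasSec.comb_bijective_iff e).mp he.bijective
  have hyW : y ∈ Y.basicOpen g := hy rfl
  generalize Y.basicOpen g = W at *
  obtain ⟨p, hp⟩ : y ∈ Set.range hW.fromSpec := by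
    rw [hW.range_fromSpec]
    exact hyW
  rw [← hp, ← Scheme.Hom.finrank_of_isPullback _ _ _ _ (Groth.Agent.Grpsch.FibRank.isPullback_fromSpec f hW)]
  have h1 : (f.app W).hom.Finite := f.finite_app W hW
  have h2 : (f.app W).hom.Flat := by
    rw [Scheme.Hom.app_eq_appLE]
    exact f.flat_appLE hW (hW.preimage f) le_rfl
  rw [Scheme.Hom.finrank_SpecMap_eq_finrank h1 h2]
  let := (f.app W).hom.toAlgebra
  have b' : Module.Basis (Fin n) Γ(Y, W) Γ(X, f ⁻¹ᵁ W) := b
  have hfree : Module.Free Γ(Y, W) Γ(X, f ⁻¹ᵁ W) := Module.Free.of_basis b'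
  have hfin : Module.Finite Γ(Y, W) Γ(X, f ⁻¹ᵁ W) := Module.Finite.of_basis b'
  change Module.rankAtStalk (R := Γ(Y, W)) Γ(X, f ⁻¹ᵁ W) p = n
  rw [Module.rankAtStalk_eq_finrank_of_free]
  have : Nontrivial Γ(Y, W) := PrimeSpectrum.nontrivial p
  change Module.finrank Γ(Y, W) Γ(X, f ⁻¹ᵁ W) = n
  rw [Module.finrank_eq_card_basis b', Fintype.card_fin]

end K872.Deg
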