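import Groth.Agent.FEt.K872.Deg
import Groth.Agent.Lefpen.H416.Spl
import Groth.Agent.S0295

/-!
# Counting sections of a finite étale cover of a connected scheme
-/

set_option autoImplicit false

universe u

open CategoryTheory CategoryTheory.Limits AlgebraicGeometry
open Groth.Agent.Pi1A.FEtAffine Groth.Agent.Pi1.H384.SplitCover Groth.Agent.Pi1.H384.SplitBasic
open Groth.Agent.Pi1B.FEtFibre

namespace K872.Sections

/-- Sections of a finite étale cover of a connected scheme which agree at a geometric point are equal. -/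
theorem section_ext {W : Scheme.{u}} [ConnectedSpace W] (E : FEt.Cat W) {Ω : Type u} [Field Ω] [IsAlgClosed Ω]
    (ξ : Spec (CommRingCat.of Ω) ⟶ W) (s s' : W ⟶ E.left) (hs : s ≫ E.hom = 𝟙 W) (hs' : s' ≫ E.hom = 𝟙 W)
    (h : ξ ≫ s = ξ ≫ s') : s = s' := by
  let T : FEt.Cat W := MorphismProperty.Over.mk ⊤ (𝟙 W) (MorphismProperty.id_mem FEt.prop W)
  let a : T ⟶ E := MorphismProperty.Over.homMk s hs
  let b : T ⟶ E := MorphismProperty.Over.homMk s' hs'
  have ha : a.left = s := rfl
  have hb : b.left = s' := rfl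
  have h1 : (FEt.fiber ξ).map a = (FEt.fiber ξ).map b := by
    refine ConcreteCategory.hom_ext _ _ fun t => Subtype.ext ?_
    have ht : t.1 = ξ := by
      have := t.2
      have h2 : t.1 ≫ T.hom = t.1 := Category.comp_id _
      rwa [h2] at this
    have h5 : t.1 ≫ a.left = t.1 ≫ b.left := by
      rw [ht, ha, hb]
      exact h
    exact h5
  have h2 : (fiberF ξ).map a = (fiberF ξ).map b := by
    have h3 : (fiberF ξ ⋙ FintypeCat.incl).map a = (fiberF ξ ⋙ FintypeCat.incl).map b := by
      rw [← cancel_mono ((fiberFIncl ξ).hom.app E), NatTrans.naturality, NatTrans.naturality, h1]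
    exact FintypeCat.incl.map_injective h3
  have h4 : a = b := (fiberF ξ).map_injective h2
  rw [← ha, ← hb, h4]

/-- Geometric points of a finite étale cover. -/
theorem natCard_lifts {T S : Scheme.{u}} (π : T ⟶ S) [IsFinite π] [Etale π] (Ω : Type u) [Field Ω] [IsAlgClosed Ω]
    (η : Spec (CommRingCat.of Ω) ⟶ S) (x : Spec (CommRingCat.of Ω)) :
    Nat.card {t : Spec (CommRingCat.of Ω) ⟶ T // t ≫ π = η} = π.finrank (η x) := by
  have h1 := Groth.Agent.Etcore.FinEtPts.card_sections (pullback.snd π η) x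
  rw [Scheme.Hom.finrank_pullback_snd] at h1
  rw [← h1]
  refine Nat.card_congr
    { toFun := fun t => ⟨pullback.lift t.1 (𝟙 _) (t.2.trans (Category.id_comp _).symm),
        pullback.lift_snd _ _ _⟩
      invFun := fun s => ⟨s.1 ≫ pullback.fst π η, by
        rw [Category.assoc, pullback.condition, reassoc_of% s.2]⟩
      left_inv := fun t => Subtype.ext (pullback.lift_fst _ _ _)
      right_inv := fun s => Subtype.ext (pullback.hom_ext ?_ ?_) }
  · exact pullback.lift_fst _ _ _
  · exact (pullback.lift_snd _ _ _).trans s.2.symm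

/-- The trivial covers have the expected degree. -/
theorem card_fibre_trivial {W : Scheme.{u}} {Ω : Type u} [Field Ω] (ξ : Spec (CommRingCat.of Ω) ⟶ W) (ι : Type u)
    [Finite ι] : Nat.card (FEt.fiberObj ξ (trivialObj W ι)) = Nat.card ι := by
  refine (Nat.card_congr (Equiv.ofBijective (fun i : ι => (⟨ξ ≫ Sigma.ι (fun _ : ι => W) i, ?_⟩ :
    FEt.fiberObj ξ (trivialObj W ι))) ⟨?_, ?_⟩)).symm
  · change (ξ ≫ Sigma.ι (fun _ : ι => W) i) ≫ Sigma.desc (fun _ : ι => 𝟙 W) = ξ
    rw [Category.assoc, Sigma.ι_desc, Category.comp_id]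
  · intro i j hij
    have h1 : ξ ≫ Sigma.ι (fun _ : ι => W) i = ξ ≫ Sigma.ι (fun _ : ι => W) j := congr_arg Subtype.val hij
    by_contra hne
    have h2 := disjoint_opensRange_sigmaι (fun _ : ι => W) i j hne
    have h3 : Sigma.ι (fun _ : ι => W) i (ξ (IsLocalRing.closedPoint Ω)) =
        Sigma.ι (fun _ : ι => W) j (ξ (IsLocalRing.closedPoint Ω)) := by
      rw [← Scheme.Hom.comp_apply, ← Scheme.Hom.comp_apply, h1]
    have h4 := TopologicalSpace.Opens.coe_disjoint.2 h2
    exact (Set.disjoint_left.1 h4) ⟨_, rfl⟩ ⟨_, h3.symm⟩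
  · rintro ⟨t, ht⟩
    obtain ⟨i, hi⟩ := exists_sheet ξ t ht
    exact ⟨i, Subtype.ext hi.symm⟩

variable {X Y X' : Scheme.{u}} (f : X ⟶ Y) (φ : X' ⟶ Y)

/-- Morphisms over `Y` are sections of the base change. -/
noncomputable def homEquivSections : (Over.mk φ ⟶ Over.mk f) ≃ {s : X' ⟶ pullback f φ // s ≫ pullback.snd f φ = 𝟙 X'} where
  toFun a := ⟨pullback.lift a.left (𝟙 X') ((Over.w a).trans (Category.id_comp _).symm), pullback.lift_snd _ _ _⟩
  invFun s := Over.homMk (s.1 ≫ pullback.fst f φ) (by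
    change (s.1 ≫ pullback.fst f φ) ≫ f = φ
    rw [Category.assoc, pullback.condition, reassoc_of% s.2])
  left_inv a := by
    ext
    exact pullback.lift_fst _ _ _
  right_inv s := by
    apply Subtype.ext
    apply pullback.hom_ext
    · exact pullback.lift_fst _ _ _
    · exact (pullback.lift_snd _ _ _).trans s.2.symm

theorem main [IsFinite f] [Etale f] (n : ℕ)
    (hdeg : FlatMod.IsFinLocFreeOfRank n ((Scheme.Modules.pushforward f).obj (Coh.structureModule X)))
    [Nonempty X'] [ConnectedSpace X'] :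
    Finite (Over.mk φ ⟶ Over.mk f) ∧ Nat.card (Over.mk φ ⟶ Over.mk f) ≤ n ∧
      (Nat.card (Over.mk φ ⟶ Over.mk f) = n ↔
        ∃ e : pullback f φ ≅ ∐ fun _ : Fin n => X',
          e.hom ≫ Sigma.desc (fun _ : Fin n => 𝟙 X') = pullback.snd f φ) := by
  obtain ⟨x⟩ : Nonempty X' := inferInstance
  obtain ⟨Ω, _, _, ξ, -⟩ := Groth.Agent.Pi1A.ConnFibres.exists_geometric_point X' x
  let E : FEt.Cat X' := MorphismProperty.Over.mk ⊤ (pullback.snd f φ) ⟨inferInstance, inferInstance⟩
  have hEl : E.left = pullback f φ := rfl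
  have hEh : E.hom = pullback.snd f φ := rfl
  have hfin : Finite (FEt.fiberObj ξ E) := Groth.Agent.S0294.result ξ E
  have hcard : Nat.card (FEt.fiberObj ξ E) = n := by
    have h1 := natCard_lifts (pullback.snd f φ) Ω ξ (IsLocalRing.closedPoint Ω)
    rw [Scheme.Hom.finrank_pullback_snd, Deg.finrank_eq f n hdeg] at h1
    exact h1
  let S := {s : X' ⟶ pullback f φ // s ≫ pullback.snd f φ = 𝟙 X'}
  let j : S → FEt.fiberObj ξ E := fun s => ⟨ξ ≫ s.1, by
    change (ξ ≫ s.1) ≫ pullback.snd f φ = ξ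
    rw [Category.assoc, s.2, Category.comp_id]⟩
  have hj : Function.Injective j := fun s s' h =>
    Subtype.ext (section_ext E ξ s.1 s'.1 s.2 s'.2 (congr_arg Subtype.val h))
  have hSfin : Finite S := Finite.of_injective j hj
  have hS : Nat.card (Over.mk φ ⟶ Over.mk f) = Nat.card S := Nat.card_congr (homEquivSections f φ)
  have hle : Nat.card S ≤ n := hcard ▸ Nat.card_le_card_of_injective j hj
  refine ⟨Finite.of_equiv S (homEquivSections f φ).symm, hS ▸ hle, ?_⟩
  rw [hS]
  constructor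
  · intro hn
    have hsurj : Function.Surjective j :=
      ((Nat.bijective_iff_injective_and_card j).2 ⟨hj, hn.trans hcard.symm⟩).2
    have hsplit : Pi1.IsSplit E := Groth.Agent.Lefpen.H416.Spl.spl E ξ fun e he => by
      obtain ⟨s, hs⟩ := hsurj ⟨e, he⟩
      exact ⟨s.1, s.2, congr_arg Subtype.val hs⟩
    obtain ⟨ι, hι, ⟨g⟩⟩ := exists_iso_trivialObj hsplit
    have hcι : Nat.card ι = n := by
      rw [← card_fibre_trivial ξ ι, ← hcard]
      exact (Nat.card_congr ((FEt.fiber ξ).mapIso g).toEquiv).symm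
    let σ : Fin n ≃ ι := (finCongr hcι.symm).trans (Finite.equivFin ι).symm
    let w : (∐ fun _ : Fin n => X') ≅ ∐ fun _ : ι => X' :=
      Sigma.whiskerEquiv (f := fun _ : Fin n => X') (g := fun _ : ι => X') σ (fun _ => Iso.refl X')
    have hw : w.hom ≫ Sigma.desc (fun _ : ι => 𝟙 X') = Sigma.desc (fun _ : Fin n => 𝟙 X') := by
      apply Sigma.hom_ext
      intro i
      simp [w]
    let g' : pullback f φ ≅ ∐ fun _ : ι => X' :=
      (Over.forget X').mapIso ((MorphismProperty.Over.forget _ _ _).mapIso g)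
    have h1 : g'.hom ≫ Sigma.desc (fun _ : ι => 𝟙 X') = pullback.snd f φ := hom_w g.hom
    refine ⟨g' ≪≫ w.symm, ?_⟩
    rw [Iso.trans_hom, Category.assoc, Iso.symm_hom, ← hw, Iso.inv_hom_id_assoc]
    exact h1
  · rintro ⟨e, he⟩
    apply le_antisymm hle
    let t : Fin n → S := fun i => ⟨Sigma.ι (fun _ : Fin n => X') i ≫ e.inv, by
      rw [Category.assoc, ← he, Iso.inv_hom_id_assoc, Sigma.ι_desc]⟩
    have ht : Function.Injective t := by
      intro i i' h
      have h1 : Sigma.ι (fun _ : Fin n => X') i ≫ e.inv = Sigma.ι (fun _ : Fin n => X') i' ≫ e.inv :=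
        congr_arg Subtype.val h
      rw [cancel_mono] at h1
      by_contra hne
      have h2 := disjoint_opensRange_sigmaι (fun _ : Fin n => X') i i' hne
      have h3 : Sigma.ι (fun _ : Fin n => X') i x = Sigma.ι (fun _ : Fin n => X') i' x := by rw [h1]
      have h4 := TopologicalSpace.Opens.coe_disjoint.2 h2
      exact (Set.disjoint_left.1 h4) ⟨_, rfl⟩ ⟨_, h3.symm⟩
    have h5 := Nat.card_le_card_of_injective t ht
    rwa [Nat.card_eq_fintype_card, Fintype.card_fin] at h5

end K872.Sections
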